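import Cfsg.Agent.Lib.GLTwoThreeO.Values
import Mathlib.Tactic.FieldSimp
import Mathlib.Tactic.IntervalCases

/-!
# The odd kernel is trivial

A finite simple group with one class of involutions, in which the centraliser of an involution
maps onto `GL(2, 3)` with a kernel of odd order inverted by the reflections, has this kernel trivial.
-/

set_option autoImplicit false
set_option linter.unusedSectionVars false

namespace CfsgLib.GLTwoThreeO

open CfsgLib.GLTwoThree Subgroup
open scoped ComplexConjugate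

universe u v

/-- The arithmetic of the two equations. -/
theorem arith {u w : ℤ} (hu : u % 16 = 13) (hw : w % 16 = 11) (h1 : u + w ≠ 0)
    (key : 1 - 9 / (u : ℂ) - 9 / (w : ℂ) - 1 / (1 - (u : ℂ) - (w : ℂ)) = 0) :
    u = 13 ∨ w = 11 := by
  have hu0 : (u : ℂ) ≠ 0 := by exact_mod_cast (show u ≠ 0 by omega)
  have hw0 : (w : ℂ) ≠ 0 := by exact_mod_cast (show w ≠ 0 by omega)
  have huw : 1 - (u : ℂ) - (w : ℂ) ≠ 0 := by
    intro h
    have : ((1 - u - w : ℤ) : ℂ) = 0 := by push_cast; exact h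
    have := Int.cast_eq_zero.mp this
    omega
  have key2 : ((u + w) * (u * w - 9 * (u + w) + 9) : ℤ) = 0 := by
    refine Int.cast_injective (α := ℂ) ?_
    field_simp at key
    push_cast
    linear_combination -key
  have key3 : (u - 9) * (w - 9) = 72 := by
    linear_combination (mul_eq_zero.mp key2).resolve_left h1
  have hdvd : (u - 9) ∣ 72 := ⟨w - 9, key3.symm⟩
  have hb1 : u - 9 ≤ 72 := Int.le_of_dvd (by norm_num) hdvd
  have hb2 : -(u - 9) ≤ 72 := Int.le_of_dvd (by norm_num) (neg_dvd.mpr hdvd)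
  have hlo : -63 ≤ u := by omega
  have hhi : u ≤ 81 := by omega
  interval_cases u <;> omega

namespace Over

variable {G : Type u} [Group G] {t : G} {M : Type v} [Group M]

/-- The odd kernel is trivial. -/
theorem ker_eq_bot [Finite G] [IsSimpleGroup G] (E : Over t M) (ht : orderOf t = 2)
    (hconj : ∀ s : G, orderOf s = 2 → IsConj t s) : E.π.ker = ⊥ := by
  classical
  have := Fintype.ofFinite G
  have hfin : Finite (Cfsg.IrrCharacter G) := (CfsgLib.Char.finite_setOf_isIrr (G := G)).to_subtype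
  have := Fintype.ofFinite (Cfsg.IrrCharacter G)
  have := Fintype.ofFinite (centralizer ({t} : Set G))
  have := Fintype.ofFinite E.π.ker
  obtain ⟨P, hP⟩ := CfsgLib.BlockB.exists_isPModular Nat.prime_two
  have := CfsgLib.Block.isPrime_of_pmodular hP
  -- the combinatorial data
  let A : MultData (Cfsg.IrrCharacter G) :=
    { k := E.mult
      one := ⟨fun _ => 1, CfsgLib.Char.isIrrCharacter_one⟩
      d := degree
      d_pos := degree_pos
      d_one := Int.cast_injective (α := ℂ) (by rw [← degree_spec, Int.cast_one])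
      gram_eq := fun i j => by
        refine Int.cast_injective (α := ℂ) ?_
        rw [← E.classInner_Phi ht, CfsgLib.Char.classInner_eq_sum_mul
          (CfsgLib.Char.isGeneralized_isClassFunction (E.isGen_Phi i))]
        simp [E.mult_spec]
      triv_eq := fun i => by
        refine Int.cast_injective (α := ℂ) ?_
        rw [← E.mult_spec, Over.Phi, CfsgLib.Char.frobenius_reciprocity _ _ _
          (CfsgLib.Char.irr_isClassFunction CfsgLib.Char.isIrrCharacter_one), ← E.classInner_phiC_one i]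
      deg_eq := fun i => by
        refine Int.cast_injective (α := ℂ) ?_
        rw [Int.cast_zero, ← E.Phi_one i, CfsgLib.Char.classFunction_apply_eq_sum
          (CfsgLib.Char.isGeneralized_isClassFunction (E.isGen_Phi i)) (1 : G)]
        simp [E.mult_spec, degree_spec] }
  obtain ⟨B, C, D, F', sB, sC, sD, sE, hsB, hsC, hsD, hsE, b0, b1, b4, c0, c1, c4, d0, d1, d4,
    f0, f1, f4, h23, s0, s1, h1B, h1C, hBC, hCD, hCE, hDE⟩ := A.exists_shape
  rw [show A.k = E.mult from rfl] at b0 b1 b4 c0 c1 c4 d0 d1 d4 f0 f1 f4 h23 s0 s1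
  obtain ⟨-, b2, b3⟩ := h23 B (by simp)
  obtain ⟨-, c2, c3⟩ := h23 C (by simp)
  obtain ⟨-, d2, d3⟩ := h23 D (by simp)
  obtain ⟨hE1, f2, f3⟩ := h23 F' (by simp)
  have hdeg0 := A.deg_eq 0
  have hdeg1 := A.deg_eq 1
  have ko0 : E.mult 0 A.one = 1 := A.triv_eq 0
  have hdo : degree A.one = 1 := A.d_one
  rw [show A.k = E.mult from rfl, show A.d = degree from rfl,
    sum_supp (v := E.mult 0) (fun x hx => by simp [hx]), s0,
    Finset.sum_insert (by simp [h1B, h1C]), Finset.sum_pair hBC, b0, c0, ko0, hdo] at hdeg0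
  rw [show A.k = E.mult from rfl, show A.d = degree from rfl,
    sum_supp (v := E.mult 1) (fun x hx => by simp [hx]), s1,
    Finset.sum_insert (by simp [hCD, hCE]), Finset.sum_pair hDE, c1, d1, f1] at hdeg1
  -- the constituents lie in the principal block
  have hone : A.one ∈ Cfsg.principalBlock P G := CfsgLib.Block.one_mem_principalBlock
  set Pb := Cfsg.principalBlock P G with hPb
  have hproj : ∀ i : Fin 5, ∀ a b c : Cfsg.IrrCharacter G, supp (E.mult i) = {a, b, c} → a ≠ b →
      a ≠ c → b ≠ c →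
      (if a ∈ Pb then E.mult i a * degree a else 0) + ((if b ∈ Pb then E.mult i b * degree b else 0) +
        (if c ∈ Pb then E.mult i c * degree c else 0)) = 0 := by
    intro i a b c hs hab hac hbc
    have h := E.sum_principal_degree ht hP i
    rw [Finset.sum_filter, sum_supp (v := E.mult i) (fun x hx => by simp [hx]), hs,
      Finset.sum_insert (by simp [hab, hac]), Finset.sum_pair hbc] at h
    exact h
  have hne : ∀ (s : ℤ) (x : Cfsg.IrrCharacter G), (s = 1 ∨ s = -1) → s * degree x ≠ 0 :=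
    fun s x hs => mul_ne_zero (by rcases hs with rfl | rfl <;> norm_num) (degree_pos x).ne'
  obtain ⟨hBP, hCP⟩ : B ∈ Pb ∧ C ∈ Pb := by
    have h := hproj 0 A.one B C s0 h1B h1C hBC
    rw [if_pos hone, b0, c0, ko0, hdo] at h
    constructor
    · by_contra hn
      rw [if_neg hn] at h
      split_ifs at h
      · exact hne sB B hsB (by omega)
      · omega
    · by_contra hn
      rw [if_neg hn] at h
      split_ifs at h
      · exact hne sC C hsC (by omega)
      · omega
  obtain ⟨hDP, hEP⟩ : D ∈ Pb ∧ F' ∈ Pb := by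
    have h := hproj 1 C D F' s1 hCD hCE hDE
    rw [if_pos hCP, c1, d1, f1] at h
    constructor
    · by_contra hn
      rw [if_neg hn] at h
      split_ifs at h
      · exact hne sD D hsD (by omega)
      · exact hne sC C hsC (by omega)
    · by_contra hn
      rw [if_neg hn] at h
      split_ifs at h
      · exact hne sE F' hsE (by omega)
      · exact hne sC C hsC (by omega)
  have valB : (B : G → ℂ) t = 3 * (sB : ℂ) := by
    rw [E.apply_t ht hP hBP, b0, b1, b2, b3, b4]; push_cast; ring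
  have valC : (C : G → ℂ) t = 4 * (sC : ℂ) := by
    rw [E.apply_t ht hP hCP, c0, c1, c2, c3, c4]; push_cast; ring
  have valD : (D : G → ℂ) t = 3 * (sD : ℂ) := by
    rw [E.apply_t ht hP hDP, d0, d1, d2, d3, d4]; push_cast; ring
  have valE : (F' : G → ℂ) t = (sE : ℂ) := by
    rw [E.apply_t ht hP hEP, f0, f1, f2, f3, f4]; push_cast; ring
  obtain ⟨nB, hnB, hnB'⟩ := E.exists_fix B
  obtain ⟨nC, hnC, hnC'⟩ := E.exists_fix C
  obtain ⟨nD, hnD, hnD'⟩ := E.exists_fix D
  obtain ⟨dB, mB, hmB⟩ := E.degree_congr ht hP hBP hconj hnB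
  obtain ⟨dC, mC, hmC⟩ := E.degree_congr ht hP hCP hconj hnC
  obtain ⟨dD, mD, hmD⟩ := E.degree_congr ht hP hDP hconj hnD
  rw [b0, b1, b2, b3, b4] at hmB
  rw [c0, c1, c2, c3, c4] at hmC
  rw [d0, d1, d2, d3, d4] at hmD
  -- the pair equations
  have pe : ∀ i : Fin 5, i < 2 → (Nat.card G : ℂ) * ∑ χ : Cfsg.IrrCharacter G,
      (E.mult i χ : ℂ) * ((χ : G → ℂ) t * (χ : G → ℂ) t / (χ : G → ℂ) 1) =
        48 * 192 * (E.o : ℂ) ^ 3 := fun i hi => by
    rw [← E.pair_sum ht hconj i hi, CfsgLib.BlockB.sum_classFun_mul_conj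
      (CfsgLib.Char.isGeneralized_isClassFunction (E.isGen_Phi i)) t t]
    congr 1
    refine Finset.sum_congr rfl fun χ _ => ?_
    rw [E.mult_spec]
    ring
  have e0 := pe 0 (by decide)
  have e1 := pe 1 (by decide)
  have hone' : (A.one : G → ℂ) = fun _ => 1 := rfl
  rw [sum_supp (v := E.mult 0) (fun x hx => by simp [hx]), s0,
    Finset.sum_insert (by simp [h1B, h1C]), Finset.sum_pair hBC, b0, c0, ko0, valB, valC,
    degree_spec B, degree_spec C, hone'] at e0
  rw [sum_supp (v := E.mult 1) (fun x hx => by simp [hx]), s1,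
    Finset.sum_insert (by simp [hCD, hCE]), Finset.sum_pair hDE, c1, d1, f1, valC, valD, valE,
    degree_spec C, degree_spec D, degree_spec F'] at e1
  have sgn : ∀ (s : ℤ), (s = 1 ∨ s = -1) → ∀ (c : ℤ) (x : ℂ),
      (s : ℂ) * (x * (s : ℂ) * (x * (s : ℂ)) / (c : ℂ)) = x * x / ((s * c : ℤ) : ℂ) := by
    rintro s (rfl | rfl) c x <;> push_cast
    · ring
    · rw [show (-1 : ℂ) * c = -(c : ℂ) by ring, div_neg]; ring
  rw [sgn sB hsB, sgn sC hsC] at e0
  rw [sgn sC hsC, sgn sD hsD] at e1
  have hE' : (sE : ℂ) * ((sE : ℂ) * (sE : ℂ) / (degree F' : ℂ)) =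
      1 / ((sE * degree F' : ℤ) : ℂ) := by
    have := sgn sE hsE (degree F') 1
    simpa only [one_mul] using this
  rw [hE'] at e1
  obtain ⟨u, hu⟩ : ∃ u, u = 1 + sC * degree C := ⟨_, rfl⟩
  obtain ⟨w, hw⟩ : ∃ w, w = sD * degree D := ⟨_, rfl⟩
  have hbu : sB * degree B = -u := by omega
  have hcu : sC * degree C = u - 1 := by omega
  have heu : sE * degree F' = 1 - u - w := by omega
  rw [hbu, hcu] at e0
  rw [← hw, hcu, heu] at e1
  push_cast at e0 e1
  -- the last character is not linear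
  have hE : sE * degree F' ≠ 1 := by
    intro h
    have h' : degree F' = 1 := by
      have := degree_pos F'
      rcases hsE with rfl | rfl <;> omega
    obtain ⟨lam, hlam⟩ := CfsgLib.Char.exists_hom_of_degree_one (CfsgLib.Char.irr_isCharacter F'.2)
      (by rw [degree_spec, h', Int.cast_one])
    rcases lam.normal_ker.eq_bot_or_eq_top with hker | hker
    · obtain ⟨q, hq, r, hr, hqr⟩ := elems_noncomm
      obtain ⟨a, rfl⟩ := E.cq_surj q hq
      obtain ⟨b, rfl⟩ := E.cq_surj r hr
      apply hqr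
      rw [← E.cq_mul, ← E.cq_mul]
      refine congrArg E.cq (Subtype.ext ((MonoidHom.ker_eq_bot_iff lam).mp hker ?_))
      rw [Subgroup.coe_mul, Subgroup.coe_mul, map_mul, map_mul, mul_comm]
    · refine hE1 (Subtype.ext ?_)
      rw [hone', hlam]
      funext g
      have := MonoidHom.mem_ker.mp (hker ▸ Subgroup.mem_top g : g ∈ lam.ker)
      rw [this, Units.val_one]
  have hkey : 1 - 9 / (u : ℂ) - 9 / (w : ℂ) - 1 / (1 - (u : ℂ) - (w : ℂ)) = 0 := by
    apply mul_left_cancel₀ (Nat.cast_ne_zero.2 Nat.card_pos.ne' : (Nat.card G : ℂ) ≠ 0)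
    linear_combination e0 - e1
  have huw := arith (u := u) (w := w) (by rcases hsC with rfl | rfl <;> omega)
    (by rcases hsD with rfl | rfl <;> omega) (by omega) hkey
  -- a character of degree less than sixteen
  obtain ⟨χ, n, hχ1, hlt, hn, hdvd⟩ : ∃ (χ : Cfsg.IrrCharacter G) (n : ℕ), χ ≠ A.one ∧
      degree χ < 16 ∧
      (E.o : ℂ) * n = ∑ x : E.π.ker, (χ : G → ℂ) ((x : centralizer ({t} : Set G)) : G) ∧
      (16 : ℤ) ∣ degree χ - n := by
    rcases huw with h | h
    · exact ⟨C, nC, h1C.symm, by rcases hsC with rfl | rfl <;> omega, hnC', dC⟩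
    · refine ⟨D, nD, ?_, by rcases hsD with rfl | rfl <;> omega, hnD', dD⟩
      exact (h23 D (by simp)).1
  -- it is constant on the kernel
  obtain ⟨m, ρ, hρ0⟩ := CfsgLib.Char.irr_isCharacter χ.2
  have hρ : (χ : G → ℂ) = ρ.character := hρ0.symm
  have hdeg : (degree χ : ℂ) = (Module.finrank ℂ (Fin m → ℂ) : ℂ) := by
    rw [← degree_spec, hρ, Representation.char_one]
  have hdm : degree χ = (Module.finrank ℂ (Fin m → ℂ) : ℤ) :=
    Int.cast_injective (α := ℂ) (by rw [hdeg, Int.cast_natCast])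
  have hnorm : ∀ g : G, ((χ : G → ℂ) g).re ≤ (degree χ : ℝ) ∧ ‖(χ : G → ℂ) g‖ ≤ (degree χ : ℝ) := by
    intro g
    have h := CfsgLib.Char.norm_char_le (ρ := ρ) g
    rw [← hρ] at h
    have e : (degree χ : ℝ) = (Module.finrank ℂ (Fin m → ℂ) : ℝ) := by rw [hdm, Int.cast_natCast]
    exact ⟨e ▸ (Complex.re_le_norm _).trans h, e ▸ h⟩
  have hcast : (E.o : ℝ) * n = ∑ x : E.π.ker, ((χ : G → ℂ) ((x : centralizer ({t} : Set G)) : G)).re := by
    have := congrArg Complex.re hn
    simpa [Complex.re_sum] using this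
  have hle : (n : ℤ) ≤ degree χ := by
    have h : (E.o : ℝ) * n ≤ (E.o : ℝ) * (degree χ : ℝ) := by
      rw [hcast]
      refine (Finset.sum_le_sum fun x _ => (hnorm _).1).trans_eq ?_
      rw [Finset.sum_const, Finset.card_univ, nsmul_eq_mul, Over.o, Nat.card_eq_fintype_card]
    have h' := le_of_mul_le_mul_left h (Nat.cast_pos.2 (Nat.pos_of_ne_zero E.o_ne_zero))
    exact_mod_cast h'
  have heq : (n : ℤ) = degree χ := by
    obtain ⟨k, hk⟩ := hdvd
    omega
  have hre : ∀ x : E.π.ker, ((χ : G → ℂ) ((x : centralizer ({t} : Set G)) : G)).re = (degree χ : ℝ) := by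
    have hsum : ∑ x : E.π.ker, ((χ : G → ℂ) ((x : centralizer ({t} : Set G)) : G)).re =
        ∑ _x : E.π.ker, (degree χ : ℝ) := by
      rw [← hcast, Finset.sum_const, Finset.card_univ, nsmul_eq_mul, Over.o,
        Nat.card_eq_fintype_card, ← heq, Int.cast_natCast]
    exact fun x => (Finset.sum_eq_sum_iff_of_le fun x _ => (hnorm _).1).1 hsum x (Finset.mem_univ x)
  rw [eq_bot_iff]
  intro a ha
  have hval : (χ : G → ℂ) a = (χ : G → ℂ) 1 := by
    have hr := hre ⟨a, ha⟩
    have hn2 := (hnorm (a : G)).2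
    rw [degree_spec]
    apply Complex.ext
    · rw [hr, Complex.intCast_re]
    · rw [Complex.intCast_im]
      have h2 := Complex.sq_norm ((χ : G → ℂ) a)
      rw [Complex.normSq_apply, hr] at h2
      have hd0 : (0 : ℝ) ≤ degree χ := by exact_mod_cast (degree_pos χ).le
      nlinarith [norm_nonneg ((χ : G → ℂ) a), sq_nonneg (((χ : G → ℂ) a).im)]
  have hker : (a : G) ∈ ρ.ker := (CfsgLib.Char.mem_ker_iff_char ρ _).2 (by rw [← hρ]; exact hval)
  rcases (inferInstance : ρ.ker.Normal).eq_bot_or_eq_top with h | h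
  · rw [h, mem_bot] at hker
    exact mem_bot.2 (Subtype.ext hker)
  · exfalso
    refine hχ1 (Subtype.ext ?_)
    have hc : ∀ g, (χ : G → ℂ) g = (χ : G → ℂ) 1 := fun g => by
      rw [hρ]; exact (CfsgLib.Char.mem_ker_iff_char ρ g).1 (h ▸ mem_top g)
    have hi := CfsgLib.Char.irr_classInner_ne χ.2 CfsgLib.Char.isIrrCharacter_one
    by_contra hne
    have h0 := hi hne
    rw [CfsgLib.Char.classInner_def, mul_eq_zero, inv_eq_zero] at h0
    have h0' := h0.resolve_left CfsgLib.Char.natCard_ne_zero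
    simp only [map_one, mul_one, hc, Finset.sum_const, Finset.card_univ, nsmul_eq_mul] at h0'
    rcases mul_eq_zero.1 h0' with h' | h'
    · exact Fintype.card_ne_zero (Nat.cast_eq_zero.1 h')
    · rw [degree_spec] at h'
      exact (degree_pos χ).ne' (Int.cast_eq_zero.1 h')

end Over

end CfsgLib.GLTwoThreeO
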