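import Cfsg.Agent.Lib.GLTwoThree.Local
import Cfsg.Agent.Lib.BlockB.ClassMul

/-!
# Involution centralisers mapping onto `GL(2, 3)` with odd kernel: the induced characters
-/

set_option autoImplicit false
set_option linter.unusedSectionVars false

namespace CfsgLib.GLTwoThreeO

open CfsgLib.GLTwoThree Subgroup
open scoped ComplexConjugate

universe u v

/-- The centraliser of `t` maps onto `GL(2, 3)` with a kernel of odd order which is inverted by
the reflections. -/
structure Over {G : Type u} [Group G] (t : G) (M : Type v) [Group M] where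
  π : centralizer ({t} : Set G) →* M
  K : Coord M
  surj : Function.Surjective π
  odd : Odd (Nat.card π.ker)
  refl : ∀ a, K.c (π a) ∈ invols → K.c (π a) ≠ tQ → a * a = 1

theorem elems_twoPow : ∀ q ∈ elems, powQ q 8 = oneQ → q ≠ oneQ →
    q ∈ invols ∨ ∃ k ∈ List.range 8, powQ q k = tQ := by decide +kernel

theorem pairs_eq : ∀ i : Fin 5, i < 2 →
    ((elems.map fun p => (elems.map fun q =>
      if p ∈ invols ∧ q ∈ invols then phi i (mulQ p q) else 0).sum).sum = 192) := by
  decide +kernel

theorem phi_tQ_mul : ∀ i : Fin 5, i < 2 → ∀ q ∈ invols,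
    phi i (mulQ tQ q) = 0 ∧ phi i (mulQ q tQ) = 0 := by decide +kernel

namespace Over

variable {G : Type u} [Group G] {t : G} {M : Type v} [Group M] (E : Over t M)

/-- The image in the table. -/
def cq (a : centralizer ({t} : Set G)) : Q := E.K.c (E.π a)

theorem cq_mul (a b : centralizer ({t} : Set G)) : E.cq (a * b) = mulQ (E.cq a) (E.cq b) := by
  simp [cq, E.K.map_mul]

theorem cq_one : E.cq 1 = oneQ := by simp [cq, E.K.map_one]

theorem cq_pow (a : centralizer ({t} : Set G)) (n : ℕ) : E.cq (a ^ n) = powQ (E.cq a) n := by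
  simp [cq, E.K.map_pow]

theorem cq_mem (a : centralizer ({t} : Set G)) : E.cq a ∈ elems := E.K.mem _

theorem cq_surj (q : Q) (hq : q ∈ elems) : ∃ a, E.cq a = q := by
  obtain ⟨m, rfl⟩ := E.K.surj q hq
  obtain ⟨a, rfl⟩ := E.surj m
  exact ⟨a, rfl⟩

theorem cq_eq_iff {a b : centralizer ({t} : Set G)} : E.cq a = E.cq b ↔ E.π a = E.π b :=
  E.K.inj.eq_iff

theorem cq_eq_one_iff {a : centralizer ({t} : Set G)} : E.cq a = oneQ ↔ a ∈ E.π.ker := by
  rw [MonoidHom.mem_ker, ← E.cq_one, cq_eq_iff, map_one]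

/-- The order of the kernel. -/
noncomputable def o : ℕ := Nat.card E.π.ker

theorem o_ne_zero [Finite G] : E.o ≠ 0 := Nat.card_pos.ne'

theorem o_cast_ne_zero [Finite G] : (E.o : ℂ) ≠ 0 := Nat.cast_ne_zero.2 E.o_ne_zero

section

variable [Finite G]

theorem eq_one_of_ker {a : centralizer ({t} : Set G)} (ha : a ∈ E.π.ker) (h : a * a = 1) :
    a = 1 := by
  have h1 : orderOf a ∣ Nat.card E.π.ker := orderOf_dvd_natCard _ ha
  have h2 : orderOf a ∣ 2 := orderOf_dvd_of_pow_eq_one (by rw [pow_two, h])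
  exact orderOf_eq_one_iff.1 (Nat.eq_one_of_dvd_coprimes (Nat.coprime_two_left.2 E.odd) h2 h1)

variable (ht : orderOf t = 2)

include ht in
theorem cq_t : E.cq ⟨t, t_mem⟩ = tQ := by
  have h2 : orderOf (⟨t, t_mem⟩ : centralizer ({t} : Set G)) = 2 := by
    rwa [Subgroup.orderOf_mk]
  have hsq : (⟨t, t_mem⟩ : centralizer ({t} : Set G)) * ⟨t, t_mem⟩ = 1 := by
    rw [← pow_two, ← h2, pow_orderOf_eq_one]
  refine tQ_unique _ (E.K.mem_invols (orderOf_eq_prime (by rw [← map_pow, pow_two, hsq, map_one])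
    fun h => ?_)) fun r hr => ?_
  · rw [E.eq_one_of_ker (MonoidHom.mem_ker.2 h) hsq, orderOf_one] at h2
    omega
  · obtain ⟨a, rfl⟩ := E.cq_surj r hr
    show mulQ (E.cq _) (E.cq a) = mulQ (E.cq a) (E.cq _)
    rw [← E.cq_mul, ← E.cq_mul]
    exact congrArg E.cq (Subtype.ext (mem_centralizer_singleton_iff.1 a.2).symm)

include ht in
theorem cq_eq_tQ {a : centralizer ({t} : Set G)} :
    E.cq a = tQ ↔ a * (⟨t, t_mem⟩ : centralizer ({t} : Set G))⁻¹ ∈ E.π.ker := by
  rw [← E.cq_t ht, cq_eq_iff, MonoidHom.mem_ker, map_mul, map_inv, mul_inv_eq_one]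

/-- `t` is a power of the element. -/
def Special (a : centralizer ({t} : Set G)) : Prop := t ∈ zpowers (a : G)

include ht in
theorem special_of_pow {a : centralizer ({t} : Set G)} {k : ℕ} (h : powQ (E.cq a) k = tQ) :
    Special a := by
  rw [← E.cq_pow, E.cq_eq_tQ ht] at h
  set x : centralizer ({t} : Set G) := ⟨t, t_mem⟩ with hx
  have hc : Commute (a ^ k * x⁻¹) x := Subtype.ext (mem_centralizer_singleton_iff.1 (SetLike.coe_mem _))
  have hw : (a ^ k * x⁻¹) ^ E.o = 1 := by
    have := pow_card_eq_one' (x := (⟨_, h⟩ : E.π.ker))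
    simpa [o] using congrArg Subtype.val this
  have hxo : x ^ E.o = x := by
    obtain ⟨m, hm⟩ := E.odd
    have h2 : x ^ 2 = 1 := Subtype.ext (by rw [SubmonoidClass.coe_pow, hx, ← ht, pow_orderOf_eq_one]; rfl)
    rw [show E.o = 2 * m + 1 from hm, pow_succ, pow_mul, h2, one_pow, one_mul]
  have : (a ^ k) ^ E.o = x := by
    conv_lhs => rw [← inv_mul_cancel_right (a ^ k) x]
    rw [hc.mul_pow, hw, one_mul, hxo]
  refine ⟨((k * E.o : ℕ) : ℤ), ?_⟩
  show (a : G) ^ ((k * E.o : ℕ) : ℤ) = t
  rw [zpow_natCast, pow_mul, ← SubmonoidClass.coe_pow, ← SubmonoidClass.coe_pow, this]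

include ht in
theorem special_of_phi_ne {i : Fin 5} {a : centralizer ({t} : Set G)}
    (h : zC (phi i (E.cq a)) ≠ 0) : Special a := by
  obtain ⟨k, -, hk⟩ := phi_supp i _ (E.cq_mem a) fun e => h (by rw [e, map_zero])
  exact E.special_of_pow ht hk

end

theorem eq_of_invol_zpowers {x r s : G} (hr : r ∈ zpowers x) (hs : s ∈ zpowers x)
    (hr2 : orderOf r = 2) (hs2 : orderOf s = 2) [Finite G] : r = s := by
  classical
  have := Fintype.ofFinite (zpowers x)
  by_contra hne
  have hb := IsCyclic.card_pow_eq_one_le (α := zpowers x) (n := 2) (by norm_num)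
  have hmem : ∀ (w : G) (hw : w ∈ zpowers x), orderOf w = 2 →
      (⟨w, hw⟩ : zpowers x) ∈ Finset.univ.filter (fun a : zpowers x => a ^ 2 = 1) := by
    intro w hw h
    exact Finset.mem_filter.2 ⟨Finset.mem_univ _, Subtype.ext (by
      rw [SubmonoidClass.coe_pow, OneMemClass.coe_one, ← h, pow_orderOf_eq_one])⟩
  have h1 : ∀ (w : G) (hw : w ∈ zpowers x), orderOf w = 2 → (1 : zpowers x) ≠ ⟨w, hw⟩ := by
    intro w hw h e
    have e' : (1 : G) = w := congrArg Subtype.val e
    rw [← e', orderOf_one] at h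
    omega
  have hsub : ({1, ⟨r, hr⟩, ⟨s, hs⟩} : Finset (zpowers x)) ⊆
      Finset.univ.filter (fun a : zpowers x => a ^ 2 = 1) := by
    intro a ha
    simp only [Finset.mem_insert, Finset.mem_singleton] at ha
    rcases ha with rfl | rfl | rfl
    · simp
    · exact hmem r hr hr2
    · exact hmem s hs hs2
  have := (Finset.card_le_card hsub).trans hb
  rw [Finset.card_eq_three.2 ⟨1, ⟨r, hr⟩, ⟨s, hs⟩, h1 r hr hr2, h1 s hs hs2,
    fun e => hne (congrArg Subtype.val e), rfl⟩] at this
  omega

theorem mem_of_conj_special [Finite G] (ht : orderOf t = 2) {a b : centralizer ({t} : Set G)}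
    (ha : Special a) (hb : Special b) {y : G} (h : y * a * y⁻¹ = b) :
    y ∈ centralizer ({t} : Set G) := by
  have h1 : y * t * y⁻¹ ∈ zpowers (b : G) := by
    obtain ⟨k, hk⟩ := ha
    exact ⟨k, by simp only [← h, conj_zpow]; rw [show (a : G) ^ k = t from hk]⟩
  exact mem_centralizer_singleton_iff.2 (mul_inv_eq_iff_eq_mul.1
    (eq_of_invol_zpowers h1 hb ((MulEquiv.orderOf_eq (MulAut.conj y) t).trans ht) ht))

section fin

variable [Fintype G] [Fintype (centralizer ({t} : Set G))]

theorem sum_pi {N : Type*} [AddCommMonoid N] [Fintype M] (F : M → N) :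
    ∑ a : centralizer ({t} : Set G), F (E.π a) = E.o • ∑ m : M, F m := by
  classical
  rw [← Finset.sum_fiberwise (Finset.univ : Finset (centralizer ({t} : Set G))) E.π fun a => F (E.π a),
    Finset.smul_sum]
  refine Finset.sum_congr rfl fun m _ => ?_
  rw [Finset.sum_congr rfl fun a ha => by rw [(Finset.mem_filter.1 ha).2], Finset.sum_const]
  congr 1
  obtain ⟨a₀, rfl⟩ := E.surj m
  rw [o, Nat.card_eq_fintype_card, ← Finset.card_univ]
  refine Finset.card_bij' (fun a ha => (⟨a₀⁻¹ * a, ?_⟩ : E.π.ker)) (fun w _ => a₀ * w)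
    (fun _ _ => Finset.mem_univ _) (fun w _ => ?_) (fun a _ => mul_inv_cancel_left a₀ a)
    (fun w _ => Subtype.ext (inv_mul_cancel_left a₀ (w : centralizer ({t} : Set G))))
  · rw [MonoidHom.mem_ker, map_mul, map_inv, (Finset.mem_filter.1 ha).2, inv_mul_cancel]
  · refine Finset.mem_filter.2 ⟨Finset.mem_univ _, ?_⟩
    rw [map_mul, MonoidHom.mem_ker.1 w.2, mul_one]

include E in
theorem finite_image : Finite M := Finite.of_surjective _ E.surj

theorem sum_zC (F : Q → Zs) :
    ∑ a : centralizer ({t} : Set G), zC (F (E.cq a)) = (E.o : ℂ) * zC (elems.map F).sum := by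
  have := E.finite_image
  have := Fintype.ofFinite M
  have h := E.sum_pi fun m => zC (F (E.K.c m))
  rw [E.K.sum_zC, nsmul_eq_mul] at h
  exact h

theorem natCard : Nat.card (centralizer ({t} : Set G)) = E.o * 48 := by
  rw [← E.π.ker.index_mul_card, index_ker, E.π.range_eq_top_of_surjective E.surj, card_top,
    mul_comm, o]
  have := E.finite_image
  rw [E.K.natCard]

/-- The inflated class functions. -/
noncomputable def phiC (i : Fin 5) : centralizer ({t} : Set G) → ℂ := fun a => zC (phi i (E.cq a))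

theorem isGen_comp {θ : M → ℂ} (h : Cfsg.IsGeneralizedCharacter M θ) :
    Cfsg.IsGeneralizedCharacter (centralizer ({t} : Set G)) fun a => θ (E.π a) := by
  obtain ⟨a, b, ha, hb, rfl⟩ := h
  exact ⟨a ∘ E.π, b ∘ E.π, CfsgLib.Char.isCharacter_comp ha _, CfsgLib.Char.isCharacter_comp hb _, rfl⟩

theorem isGen_phiC (i : Fin 5) : Cfsg.IsGeneralizedCharacter _ (E.phiC i) :=
  E.isGen_comp (E.K.isGen_phi i)

theorem isGen_f : Cfsg.IsGeneralizedCharacter (centralizer ({t} : Set G))
    fun a => zC (1 + x3 (E.cq a)) := E.isGen_comp E.K.isGen_f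

/-- The induced generalized characters. -/
noncomputable def Phi (i : Fin 5) : G → ℂ :=
  Cfsg.indFun (centralizer ({t} : Set G)) (E.phiC i)

theorem isGen_Phi (i : Fin 5) : Cfsg.IsGeneralizedCharacter G (E.Phi i) :=
  CfsgLib.Char.isGeneralized_indFun _ (E.isGen_phiC i)

theorem Phi_one (i : Fin 5) : E.Phi i 1 = 0 := by
  rw [Phi, CfsgLib.Char.indFun_apply_one]
  simp [phiC, E.cq_one, phi_one]

variable (ht : orderOf t = 2)

include ht in
theorem Phi_apply_special (i : Fin 5) {a : centralizer ({t} : Set G)} (ha : Special a) :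
    E.Phi i a = E.phiC i a := by
  classical
  have hterm : ∀ x : G, Cfsg.extendByZero (centralizer ({t} : Set G)) (E.phiC i)
      (x⁻¹ * (a : G) * x) = if x ∈ centralizer ({t} : Set G) then E.phiC i a else 0 := by
    intro x
    split_ifs with hx
    · rw [show x⁻¹ * (a : G) * x =
          ((⟨x, hx⟩⁻¹ * a * ⟨x, hx⟩ : centralizer ({t} : Set G)) : G) from rfl,
        CfsgLib.Char.extendByZero_coe]
      have h := CfsgLib.Char.isGeneralized_isClassFunction (E.isGen_phiC i) a
        (⟨x, hx⟩ : centralizer ({t} : Set G))⁻¹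
      rw [inv_inv] at h
      exact h
    · by_cases hm : x⁻¹ * (a : G) * x ∈ centralizer ({t} : Set G)
      · rw [CfsgLib.Char.extendByZero_of_mem _ hm]
        by_contra hne
        refine hx (mem_of_conj_special ht (E.special_of_phi_ne ht (i := i) hne) ha (y := x) ?_)
        show x * (x⁻¹ * (a : G) * x) * x⁻¹ = a
        group
      · exact CfsgLib.Char.extendByZero_of_not_mem _ hm
  rw [Phi, CfsgLib.Char.indFun_def, Finset.sum_congr rfl fun x _ => hterm x, ← Finset.sum_filter,
    Finset.sum_const, nsmul_eq_mul, ← Fintype.card_subtype, ← Nat.card_eq_fintype_card,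
    inv_mul_cancel_left₀ (by exact_mod_cast Nat.card_pos.ne')]

theorem classInner_phiC (i j : Fin 5) :
    Cfsg.classInner (E.phiC i) (E.phiC j) = gram i j := by
  rw [CfsgLib.Char.classInner_def, E.natCard]
  simp only [phiC, ← zC_star, ← _root_.map_mul]
  rw [E.sum_zC fun q => phi i q * star (phi j q), phi_gram, map_intCast]
  have := E.o_cast_ne_zero
  push_cast
  field_simp

theorem classInner_phiC_one (i : Fin 5) :
    Cfsg.classInner (E.phiC i) (fun _ : centralizer ({t} : Set G) => (1 : ℂ)) = triv i := by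
  rw [CfsgLib.Char.classInner_def, E.natCard]
  simp only [phiC, _root_.map_one, mul_one]
  rw [E.sum_zC fun q => phi i q, phi_triv, map_intCast]
  have := E.o_cast_ne_zero
  push_cast
  field_simp

include ht in
theorem classInner_Phi (i j : Fin 5) : Cfsg.classInner (E.Phi i) (E.Phi j) = gram i j := by
  classical
  rw [Phi, CfsgLib.Char.frobenius_reciprocity _ _ _
    (CfsgLib.Char.isGeneralized_isClassFunction (E.isGen_Phi j)), ← E.classInner_phiC i j,
    CfsgLib.Char.classInner_def, CfsgLib.Char.classInner_def]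
  congr 1
  refine Finset.sum_congr rfl fun a _ => ?_
  by_cases h : zC (phi i (E.cq a)) = 0
  · simp [phiC, h]
  · rw [E.Phi_apply_special ht j (E.special_of_phi_ne ht h)]

include ht in
/-- The class multiplication sums of `t` with itself agree for the first two functions. -/
theorem pair_sum (hconj : ∀ s : G, orderOf s = 2 → IsConj t s) (i : Fin 5) (hi : i < 2) :
    ∑ y : G, E.Phi i (t * (y * t * y⁻¹)) = 48 * 192 * (E.o : ℂ) ^ 3 := by
  classical
  have hcl := CfsgLib.Char.isGeneralized_isClassFunction (E.isGen_Phi i)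
  let F : G → ℂ := Cfsg.extendByZero (centralizer ({t} : Set G)) (E.phiC i)
  let u : G → G := fun z => z * t * z⁻¹
  let n : G → ℂ := fun s => if orderOf s = 2 then ((E.o * 48 : ℕ) : ℂ) else 0
  have hu : ∀ z w : G, w * u z * w⁻¹ = u (w * z) := fun z w => by simp only [u]; group
  have hH : Nat.card (centralizer ({t} : Set G)) = E.o * 48 := E.natCard
  have h1 : ∀ z : G, ∑ y : G, E.Phi i (t * u y) = ∑ y : G, E.Phi i (u z * u y) := by
    intro z
    refine Fintype.sum_equiv (Equiv.mulLeft z) _ _ fun y => ?_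
    show E.Phi i (t * u y) = E.Phi i (u z * u (z * y))
    rw [← hu y z, ← hcl (t * u y) z]
    congr 1
    simp only [u]; group
  have h2 : ∑ z : G, ∑ y : G, E.Phi i (u z * u y) =
      (Nat.card G : ℂ) * ((Nat.card (centralizer ({t} : Set G)) : ℂ)⁻¹ *
        ∑ z : G, ∑ y : G, F (u z * u y)) := by
    simp only [Phi, CfsgLib.Char.indFun_def, ← Finset.mul_sum]
    rw [mul_left_comm]
    congr 1
    rw [Finset.sum_congr rfl fun z _ => Finset.sum_comm, Finset.sum_comm,
      Nat.card_eq_fintype_card, ← nsmul_eq_mul, ← Finset.card_univ, ← Finset.sum_const]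
    refine Finset.sum_congr rfl fun w _ => ?_
    refine Fintype.sum_equiv (Equiv.mulLeft w⁻¹) _ _ fun z => ?_
    refine Fintype.sum_equiv (Equiv.mulLeft w⁻¹) _ _ fun y => ?_
    show F (w⁻¹ * (u z * u y) * w) = F (u (w⁻¹ * z) * u (w⁻¹ * y))
    rw [← hu, ← hu]
    congr 1
    group
  have h3 : ∀ Z : G → ℂ, ∑ z : G, Z (u z) = ∑ s : G, n s * Z s := by
    intro Z
    rw [← Finset.sum_fiberwise (Finset.univ : Finset G) u fun z => Z (u z)]
    refine Finset.sum_congr rfl fun s _ => ?_
    rw [Finset.sum_congr rfl fun z hz => by rw [(Finset.mem_filter.mp hz).2], Finset.sum_const,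
      nsmul_eq_mul]
    congr 1
    simp only [n]
    split_ifs with hs
    · obtain ⟨z, rfl⟩ := isConj_iff.mp (hconj s hs)
      rw [card_conj_fiber z, hH]
    · rw [Finset.card_eq_zero.mpr (Finset.filter_eq_empty_iff.mpr fun z _ e => hs ?_), Nat.cast_zero]
      rw [← e, ← ht]
      exact MulEquiv.orderOf_eq (MulAut.conj z) t
  have hsq : ∀ {r : G}, orderOf r = 2 → r * r = 1 := fun {r} hr => by
    rw [← pow_two, ← hr, pow_orderOf_eq_one]
  have h4 : ∀ r s : G, orderOf r = 2 → orderOf s = 2 → F (r * s) ≠ 0 →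
      r ∈ centralizer ({t} : Set G) ∧ s ∈ centralizer ({t} : Set G) := by
    intro r s hr hs hne
    have hm : r * s ∈ centralizer ({t} : Set G) := by
      by_contra h
      exact hne (CfsgLib.Char.extendByZero_of_not_mem _ h)
    obtain ⟨k, hk⟩ : Special (⟨r * s, hm⟩ : centralizer ({t} : Set G)) := by
      refine E.special_of_phi_ne ht (i := i) fun h => hne ?_
      show Cfsg.extendByZero (centralizer ({t} : Set G)) (E.phiC i) (r * s) = 0
      rw [CfsgLib.Char.extendByZero_of_mem _ hm]
      exact h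
    have hinv : r * (r * s) * r⁻¹ = (r * s)⁻¹ := by
      rw [inv_eq_of_mul_eq_one_right (hsq hr), ← mul_assoc, hsq hr, one_mul, mul_inv_rev,
        inv_eq_of_mul_eq_one_right (hsq hr), inv_eq_of_mul_eq_one_right (hsq hs)]
    have hk' : (r * s) ^ k = t := hk
    have hrt : r * t * r⁻¹ = t := by
      conv_lhs => rw [← hk']
      rw [← conj_zpow, hinv, inv_zpow, hk', inv_eq_of_mul_eq_one_right (hsq ht)]
    have hr' : r ∈ centralizer ({t} : Set G) :=
      mem_centralizer_singleton_iff.mpr (mul_inv_eq_iff_eq_mul.mp hrt)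
    exact ⟨hr', by simpa [hsq hr, ← mul_assoc] using mul_mem hr' hm⟩
  have h5 : ∑ z : G, ∑ y : G, F (u z * u y) =
      ((E.o * 48 : ℕ) : ℂ) * (E.o * 48 : ℕ) * ((E.o : ℂ) * E.o * 192) := by
    rw [h3 fun r => ∑ y : G, F (r * u y)]
    simp only [fun r : G => h3 fun s => F (r * s), Finset.mul_sum]
    rw [sum_coe (t := t) fun r hr => Finset.sum_eq_zero fun s _ => ?_]
    rotate_left
    · simp only [n]
      split_ifs with a b <;> try simp
      by_contra h
      exact hr (h4 r s a b (fun e => h (by simp [e]))).1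
    rw [Finset.sum_congr rfl fun r _ => sum_coe (t := t) fun s hs => ?_]
    rotate_left
    · simp only [n]
      split_ifs with a b <;> try simp
      by_contra h
      exact hs (h4 r s a b (fun e => h (by simp [e]))).2
    have key : ∀ r s : centralizer ({t} : Set G), n r * (n s * F ((r : G) * s)) =
        ((E.o * 48 : ℕ) : ℂ) * ((E.o * 48 : ℕ) : ℂ) * zC (if E.cq r ∈ invols ∧ E.cq s ∈ invols then
          phi i (mulQ (E.cq r) (E.cq s)) else 0) := by
      intro r s
      have hF : F ((r : G) * s) = zC (phi i (mulQ (E.cq r) (E.cq s))) := by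
        rw [show (r : G) * s = ((r * s : centralizer ({t} : Set G)) : G) from rfl]
        show Cfsg.extendByZero (centralizer ({t} : Set G)) (E.phiC i) _ = _
        rw [CfsgLib.Char.extendByZero_coe, phiC, E.cq_mul]
      rw [hF]
      have hinv : ∀ a : centralizer ({t} : Set G), orderOf (a : G) = 2 → E.cq a ∈ invols := by
        intro a ha
        have h2 : a * a = 1 := Subtype.ext (hsq ha)
        refine E.K.mem_invols (orderOf_eq_prime (by rw [← map_pow, pow_two, h2, map_one]) fun h => ?_)
        rw [E.eq_one_of_ker (MonoidHom.mem_ker.2 h) h2, OneMemClass.coe_one, orderOf_one] at ha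
        omega
      have hback : ∀ a : centralizer ({t} : Set G), E.cq a ∈ invols → E.cq a ≠ tQ →
          orderOf (a : G) = 2 := by
        intro a ha hne
        rw [Subgroup.orderOf_coe]
        refine orderOf_eq_prime (by rw [pow_two]; exact E.refl a ha hne) fun e => ?_
        rw [e, E.cq_one] at ha
        exact absurd ha (by decide)
      by_cases hrI : E.cq r ∈ invols
      swap
      · rw [if_neg fun h => hrI h.1, map_zero, mul_zero]
        simp only [n, if_neg fun h => hrI (hinv r h), zero_mul]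
      by_cases hsI : E.cq s ∈ invols
      swap
      · rw [if_neg fun h => hsI h.2, map_zero, mul_zero]
        simp only [n, if_neg fun h => hsI (hinv s h), zero_mul, mul_zero]
      rw [if_pos ⟨hrI, hsI⟩]
      by_cases hrt : E.cq r = tQ
      · rw [hrt, (phi_tQ_mul i hi _ hsI).1, map_zero, mul_zero, mul_zero, mul_zero]
      by_cases hst : E.cq s = tQ
      · rw [hst, (phi_tQ_mul i hi _ hrI).2, map_zero, mul_zero, mul_zero, mul_zero]
      simp only [n, if_pos (hback r hrI hrt), if_pos (hback s hsI hst)]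
      ring
    simp only [key, ← Finset.mul_sum]
    congr 1
    rw [Finset.sum_congr rfl fun r _ => E.sum_zC fun q =>
      if E.cq r ∈ invols ∧ q ∈ invols then phi i (mulQ (E.cq r) q) else 0, ← Finset.mul_sum]
    rw [E.sum_zC fun p => (elems.map fun q =>
      if p ∈ invols ∧ q ∈ invols then phi i (mulQ p q) else 0).sum]
    rw [pairs_eq i hi, map_ofNat, mul_assoc]
  have hG : (Nat.card G : ℂ) ≠ 0 := CfsgLib.Char.natCard_ne_zero
  refine mul_left_cancel₀ hG ?_
  calc (Nat.card G : ℂ) * ∑ y : G, E.Phi i (t * u y)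
      = ∑ _z : G, ∑ y : G, E.Phi i (t * u y) := by
        rw [Finset.sum_const, nsmul_eq_mul, Finset.card_univ, Nat.card_eq_fintype_card]
    _ = ∑ z : G, ∑ y : G, E.Phi i (u z * u y) := Finset.sum_congr rfl fun z _ => h1 z
    _ = _ := by
      rw [h2, h5, hH]
      have := E.o_cast_ne_zero
      push_cast
      field_simp

end fin

end Over

end CfsgLib.GLTwoThreeO
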