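import Cfsg.Agent.Lib.GLTwoThreeO.Setup
import Cfsg.Agent.Lib.GLTwoThree.Values
import Cfsg.Agent.Lib.Block.PrincipalSection
import Cfsg.Agent.Lib.BlockB.PModular

/-!
# Principal block characters and the inflated characters
-/

set_option autoImplicit false
set_option linter.unusedSectionVars false

namespace CfsgLib.GLTwoThreeO

open CfsgLib.GLTwoThree Subgroup
open scoped ComplexConjugate

universe u v

namespace Over

variable {G : Type u} [Group G] {t : G} {M : Type v} [Group M] (E : Over t M) [Fintype G]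

theorem exists_mult (i : Fin 5) (χ : Cfsg.IrrCharacter G) [Fintype (centralizer ({t} : Set G))] :
    ∃ k : ℤ, Cfsg.classInner (E.Phi i) (χ : G → ℂ) = k :=
  CfsgLib.Char.classInner_isGeneralized_int (E.isGen_Phi i)
    (CfsgLib.Char.isGeneralized_of_isCharacter (CfsgLib.Char.irr_isCharacter χ.2))

variable [Fintype (centralizer ({t} : Set G))]

/-- Multiplicity of an irreducible character in an induced generalized character. -/
noncomputable def mult (i : Fin 5) (χ : Cfsg.IrrCharacter G) : ℤ := (E.exists_mult i χ).choose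

theorem mult_spec (i : Fin 5) (χ : Cfsg.IrrCharacter G) :
    Cfsg.classInner (E.Phi i) (χ : G → ℂ) = (E.mult i χ : ℂ) := (E.exists_mult i χ).choose_spec

theorem mult_inner (i : Fin 5) (χ : Cfsg.IrrCharacter G) :
    (E.mult i χ : ℂ) = ((E.o * 48 : ℕ) : ℂ)⁻¹ * ∑ a : centralizer ({t} : Set G),
      zC (phi i (E.cq a)) * conj ((χ : G → ℂ) a) := by
  rw [← mult_spec, Phi, CfsgLib.Char.frobenius_reciprocity _ _ _
    (CfsgLib.Char.irr_isClassFunction χ.2), CfsgLib.Char.classInner_def, E.natCard]
  rfl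

variable [Fintype (Cfsg.IrrCharacter G)] (ht : orderOf t = 2) {P : Ideal Cfsg.AlgInt}
  (hP : Cfsg.IsPModular 2 P)

include ht hP in
/-- The weighted degree sum of the multiplicities over the principal block vanishes. -/
theorem sum_principal_degree [DecidablePred (· ∈ Cfsg.principalBlock P G)] (i : Fin 5) :
    ∑ χ ∈ Finset.univ.filter (· ∈ Cfsg.principalBlock P G), E.mult i χ * degree χ = 0 := by
  classical
  refine Int.cast_injective (α := ℂ) ?_
  push_cast
  simp only [E.mult_inner, mul_assoc, Finset.sum_mul, ← Finset.mul_sum]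
  rw [Finset.sum_comm]
  simp only [← Finset.mul_sum]
  refine mul_eq_zero_of_right _ (Finset.sum_eq_zero fun a _ => ?_)
  by_cases h : zC (phi i (E.cq a)) = 0
  · rw [h, zero_mul]
  have := CfsgLib.Block.isPrime_of_pmodular hP
  have hs := E.special_of_phi_ne ht h
  have h2 : 2 ∣ orderOf (a : G) := ht ▸ orderOf_dvd_of_mem_zpowers hs
  have h0 := CfsgLib.Block.sum_block_eq_zero_of_regular_singular hP
    (CfsgLib.Block.isPBlock_principalBlock (G := G)) (g := (1 : G)) (h := (a : G))
    (by rw [orderOf_one]; norm_num) h2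
  rw [finsum_mem_eq_finite_toFinset_sum _ (Set.toFinite (Cfsg.principalBlock P G))] at h0
  have hset : (Set.toFinite (Cfsg.principalBlock P G)).toFinset =
      Finset.univ.filter (· ∈ Cfsg.principalBlock P G) := by ext; simp
  rw [hset] at h0
  rw [show (∑ χ ∈ Finset.univ.filter (· ∈ Cfsg.principalBlock P G),
      conj ((χ : G → ℂ) (a : G)) * (degree χ : ℂ)) = 0 from ?_, mul_zero]
  refine (Finset.sum_congr rfl fun χ _ => ?_).trans h0
  rw [degree_spec, mul_comm]

variable {χ : Cfsg.IrrCharacter G}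

section principal

variable (hχ : χ ∈ Cfsg.principalBlock P G)
  (hconj : ∀ s : G, orderOf s = 2 → IsConj t s)

include ht hP hχ in
/-- The value at an element with a two-power image only depends on the two-part. -/
theorem apply_eq_twoPart (a : centralizer ({t} : Set G)) (hq : powQ (E.cq a) 8 = oneQ)
    (hq1 : E.cq a ≠ oneQ) :
    ∃ x : centralizer ({t} : Set G), (∃ k, orderOf x = 2 ^ k) ∧ E.π x = E.π a ∧
      (χ : G → ℂ) a = (χ : G → ℂ) x := by
  classical
  by_cases hr : E.cq a ∈ invols ∧ E.cq a ≠ tQ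
  · refine ⟨a, ⟨1, ?_⟩, rfl, rfl⟩
    rw [pow_one]
    refine orderOf_eq_prime (by rw [pow_two]; exact E.refl a hr.1 hr.2) fun e => hq1 ?_
    rw [e, E.cq_one]
  obtain ⟨k, hk⟩ : ∃ k, powQ (E.cq a) k = tQ := by
    rcases elems_twoPow _ (E.cq_mem a) hq hq1 with h | ⟨k, -, h⟩
    · refine ⟨1, ?_⟩
      by_cases e : E.cq a = tQ
      · rw [← E.cq_pow, pow_one, e]
      · exact absurd ⟨h, e⟩ hr
    · exact ⟨k, h⟩
  set x := CfsgLib.Invol.twoPart a with hxdef
  set w := x⁻¹ * a with hwdef
  have hxa : x * w = a := mul_inv_cancel_left x a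
  have hx2 := CfsgLib.Invol.exists_orderOf_twoPart a
  have hcxw : Commute x w := by
    have h := CfsgLib.Invol.twoPart_commute_self a
    exact ((Commute.refl x).inv_right).mul_right h
  have hwodd : Odd (orderOf w) := CfsgLib.Invol.odd_orderOf_twoPart_inv_mul a
  have hwker : w ∈ E.π.ker := by
    rw [MonoidHom.mem_ker]
    have e1 : (E.π w) ^ orderOf w = 1 := by rw [← map_pow, pow_orderOf_eq_one, map_one]
    obtain ⟨j, hj⟩ := hx2
    have e2 : (E.π w) ^ (2 ^ (j + 3)) = 1 := by
      rw [hwdef, map_mul, map_inv]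
      have hc : Commute (E.π x)⁻¹ (E.π a) :=
        ((CfsgLib.Invol.twoPart_commute_self a).map E.π).inv_left
      have ha8 : (E.π a) ^ 8 = 1 := by
        rw [← map_pow]
        exact MonoidHom.mem_ker.1 (E.cq_eq_one_iff.1 (by rw [E.cq_pow, hq]))
      rw [hc.mul_pow, inv_pow, ← map_pow, pow_add, pow_mul, ← hj, pow_orderOf_eq_one, one_pow,
        map_one, inv_one, one_mul, mul_comm, pow_mul]
      show ((E.π a) ^ 8) ^ (orderOf x) = 1
      rw [ha8, one_pow]
    exact orderOf_eq_one_iff.1 (Nat.eq_one_of_dvd_coprimes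
      ((Nat.coprime_two_left.2 hwodd).pow_left _) (orderOf_dvd_of_pow_eq_one e2)
      (orderOf_dvd_of_pow_eq_one e1))
  have hπ : E.π x = E.π a := by rw [← hxa, map_mul, MonoidHom.mem_ker.1 hwker, mul_one]
  refine ⟨x, hx2, hπ, ?_⟩
  have hxsp : Special x := E.special_of_pow ht (k := k) (by
    rw [show E.cq x = E.cq a from E.cq_eq_iff.2 hπ]; exact hk)
  have hCle : centralizer ({(x : G)} : Set G) ≤ centralizer ({t} : Set G) := fun g hg => by
    obtain ⟨j, hj⟩ := hxsp
    refine mem_centralizer_singleton_iff.2 ?_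
    rw [← show (x : G) ^ j = t from hj]
    exact (show Commute g (x : G) from mem_centralizer_singleton_iff.1 hg).zpow_right j
  have hcore : (w : G) ∈ Cfsg.centralizerPPrimeCore 2 (x : G) := by
    have hwx : (w : G) ∈ centralizer ({(x : G)} : Set G) :=
      mem_centralizer_singleton_iff.2 (congrArg Subtype.val hcxw.eq).symm
    refine ⟨⟨w, hwx⟩, ?_, rfl⟩
    let N : Subgroup (centralizer ({(x : G)} : Set G)) := E.π.ker.comap (inclusion hCle)
    have hN : (Nat.card N).Coprime 2 := by
      have hdvd : Nat.card N ∣ Nat.card E.π.ker := by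
        refine Subgroup.card_dvd_of_injective ((inclusion hCle).subgroupComap E.π.ker) ?_
        intro a b h
        exact Subtype.ext (inclusion_injective hCle (congrArg Subtype.val h))
      exact Nat.coprime_two_right.2 (E.odd.of_dvd_nat hdvd)
    exact CfsgLib.Solvable.le_pPrimeCore inferInstance hN (show inclusion hCle ⟨w, hwx⟩ ∈ E.π.ker from
      hwker)
  have hval := CfsgLib.Invol.principal_const_on_core hP (x := (x : G))
    (by obtain ⟨j, hj⟩ := hx2; exact ⟨j, (Subgroup.orderOf_coe x).trans hj⟩) hcore hχ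
  rw [← hval, ← Subgroup.coe_mul, hxa]

include ht hP hχ in
/-- The value is constant on the fibres over nontrivial two-elements. -/
theorem fiber_const {a b : centralizer ({t} : Set G)} (hab : E.π a = E.π b)
    (hq : powQ (E.cq a) 8 = oneQ) (hq1 : E.cq a ≠ oneQ) :
    (χ : G → ℂ) a = (χ : G → ℂ) b := by
  classical
  have hab' : E.cq a = E.cq b := E.cq_eq_iff.2 hab
  obtain ⟨x, ⟨i, hi⟩, hxπ, hxv⟩ := E.apply_eq_twoPart ht hP hχ a hq hq1
  obtain ⟨y, ⟨j, hj⟩, hyπ, hyv⟩ := E.apply_eq_twoPart ht hP hχ b (hab' ▸ hq) (hab' ▸ hq1)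
  rw [hxv, hyv]
  -- both generate Sylow two-subgroups of the preimage of the cyclic image
  set R : Subgroup (centralizer ({t} : Set G)) := (zpowers (E.π x)).comap E.π with hR
  have hxR : x ∈ R := mem_zpowers (E.π x)
  have hyR : y ∈ R := by
    show E.π y ∈ zpowers (E.π x)
    rw [hyπ, ← hab, ← hxπ]
    exact mem_zpowers _
  have hord : ∀ {z : centralizer ({t} : Set G)} {l : ℕ}, orderOf z = 2 ^ l →
      orderOf (E.π z) = orderOf z := by
    intro z l hl
    refine Nat.dvd_antisymm (orderOf_map_dvd _ _) ?_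
    have hm : z ^ orderOf (E.π z) ∈ E.π.ker := by
      rw [MonoidHom.mem_ker, map_pow, pow_orderOf_eq_one]
    refine orderOf_dvd_of_pow_eq_one ?_
    have h1 : orderOf (z ^ orderOf (E.π z)) ∣ Nat.card E.π.ker := orderOf_dvd_natCard _ hm
    have h2 : orderOf (z ^ orderOf (E.π z)) ∣ 2 ^ l := hl ▸ orderOf_pow_dvd _
    exact orderOf_eq_one_iff.1 (Nat.eq_one_of_dvd_coprimes
      ((Nat.coprime_two_left.2 E.odd).pow_left _) h2 h1)
  have hcardR : Nat.card R = E.o * 2 ^ i := by
    rw [← hi, ← hord hi, ← Nat.card_zpowers, o,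
      ← (E.π.ker.subgroupOf R).card_mul_index, ← relIndex, ← E.π.comap_bot,
      relIndex_comap, map_comap_eq_self_of_surjective E.surj, relIndex_bot_left]
    congr 1
    exact Nat.card_congr (subgroupOfEquivOfLe (show comap E.π ⊥ ≤ R from fun z hz => by show E.π z ∈ zpowers (E.π x); rw [show E.π z = 1 from mem_bot.1 hz]; exact one_mem _)).toEquiv
  have hji : orderOf y = orderOf x := by rw [← hord hj, ← hord hi, hyπ, hxπ, hab]
  have hcop : ¬ 2 ∣ E.o := fun h => (Nat.not_even_iff_odd.2 E.odd) (even_iff_two_dvd.2 h)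
  have hsyl : (2 : ℕ) ^ (Nat.card R).factorization 2 = 2 ^ i := by
    rw [hcardR, Nat.factorization_mul E.o_ne_zero (by positivity), Finsupp.add_apply,
      Nat.factorization_eq_zero_of_not_dvd hcop, zero_add,
      Nat.Prime.factorization_pow Nat.prime_two, Finsupp.single_eq_same]
  let Sx : Sylow 2 R := Sylow.ofCard (zpowers ⟨x, hxR⟩)
    (by rw [Nat.card_zpowers, Subgroup.orderOf_mk, hi, hsyl])
  let Sy : Sylow 2 R := Sylow.ofCard (zpowers ⟨y, hyR⟩)
    (by rw [Nat.card_zpowers, Subgroup.orderOf_mk, hji, hi, hsyl])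
  obtain ⟨r, hr⟩ := MulAction.exists_smul_eq R Sx Sy
  have hm : r * ⟨x, hxR⟩ * r⁻¹ ∈ (Sy : Subgroup R) := by
    rw [← hr, Sylow.coe_subgroup_smul]
    exact ⟨⟨x, hxR⟩, mem_zpowers _, rfl⟩
  obtain ⟨l, hl⟩ := hm
  have hl' : (r : centralizer ({t} : Set G)) * x * (r : centralizer ({t} : Set G))⁻¹ = y ^ l := by
    have := congrArg Subtype.val hl
    simpa using this.symm
  have hrc : E.π (r : centralizer ({t} : Set G)) * E.π x * (E.π (r : centralizer ({t} : Set G)))⁻¹ = E.π x := by
    obtain ⟨m, hm⟩ := r.2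
    rw [show E.π (r : centralizer ({t} : Set G)) = (E.π x) ^ m from hm.symm,
      ((Commute.refl (E.π x)).zpow_left m).eq, mul_inv_cancel_right]
  have hl1 : y ^ l = y := by
    have e1 : E.π (y ^ l) = E.π y := by
      rw [← hl', map_mul, map_mul, map_inv, hrc, hyπ, hxπ, hab]
    have e2 : (orderOf (E.π y) : ℤ) ∣ l - 1 := by
      rw [orderOf_dvd_iff_zpow_eq_one, zpow_sub, zpow_one, ← map_zpow, e1, mul_inv_cancel]
    rw [hord hj, orderOf_dvd_iff_zpow_eq_one, zpow_sub, zpow_one, mul_inv_eq_one] at e2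
    exact e2
  rw [hl1] at hl'
  rw [← hl', Subgroup.coe_mul, Subgroup.coe_mul, InvMemClass.coe_inv]
  exact (CfsgLib.Char.irr_isClassFunction χ.2 _ _).symm

include ht hP hχ in
/-- The value at `t` in terms of the multiplicities. -/
theorem apply_t : (χ : G → ℂ) t = ((3 * E.mult 0 χ + E.mult 1 χ - 2 * E.mult 4 χ + 2 * E.mult 2 χ
      + 2 * E.mult 3 χ : ℤ) : ℂ) := by
  classical
  have h : ((3 * E.mult 0 χ + E.mult 1 χ - 2 * E.mult 4 χ + 2 * E.mult 2 χ
      + 2 * E.mult 3 χ : ℤ) : ℂ) = ((E.o * 48 : ℕ) : ℂ)⁻¹ * ∑ a : centralizer ({t} : Set G),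
        zC (if E.cq a = tQ then 48 else 0) * conj ((χ : G → ℂ) a) := by
    push_cast
    simp only [E.mult_inner, ← delta_t _ (E.cq_mem _), map_add, map_sub, map_mul, map_ofNat,
      add_mul, sub_mul, Finset.sum_add_distrib, Finset.sum_sub_distrib, mul_assoc,
      ← Finset.mul_sum]
    push_cast
    ring
  have hsum : ∑ a : centralizer ({t} : Set G),
      zC (if E.cq a = tQ then 48 else 0) * conj ((χ : G → ℂ) a) =
      ∑ a : centralizer ({t} : Set G), zC (if E.cq a = tQ then 48 else 0) * conj ((χ : G → ℂ) t) := by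
    refine Finset.sum_congr rfl fun a _ => ?_
    split_ifs with e
    · congr 2
      have hp : E.π a = E.π ⟨t, t_mem⟩ := E.cq_eq_iff.1 (e.trans (E.cq_t ht).symm)
      exact E.fiber_const ht hP hχ hp (by rw [e]; decide) (by rw [e]; decide)
    · simp
  rw [hsum, ← Finset.sum_mul, E.sum_zC (fun q => if q = tQ then 48 else 0),
    show (elems.map fun q => if q = tQ then (48 : Zs) else 0).sum = 48 by decide +kernel, map_ofNat,
    ← mul_assoc] at h
  have ho := E.o_cast_ne_zero
  rw [Nat.cast_mul, Nat.cast_ofNat, inv_mul_cancel₀ (mul_ne_zero ho (by norm_num)), one_mul] at h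
  have h' := congrArg conj h
  rw [Complex.conj_conj, map_intCast] at h'
  exact h'.symm

variable (χ) in
/-- The multiplicity of the trivial character of the kernel. -/
theorem exists_fix [Fintype E.π.ker] : ∃ F : ℕ, (∑ a : centralizer ({t} : Set G),
    zC (if E.cq a = oneQ then 1 else 0) * conj ((χ : G → ℂ) a)) = (E.o : ℂ) * F ∧
    (E.o : ℂ) * F = ∑ w : E.π.ker, (χ : G → ℂ) ((w : centralizer ({t} : Set G)) : G) := by
  classical
  obtain ⟨F, hF⟩ := CfsgLib.Char.classInner_isCharacter_nat (G := E.π.ker)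
    (CfsgLib.Char.isCharacter_comp (CfsgLib.Char.irr_isCharacter χ.2)
      ((centralizer ({t} : Set G)).subtype.comp E.π.ker.subtype))
    CfsgLib.Char.isCharacter_one
  rw [CfsgLib.Char.classInner_def, inv_mul_eq_iff_eq_mul₀ (Nat.cast_ne_zero.2 Nat.card_pos.ne')] at hF
  simp only [map_one, mul_one, Function.comp_apply] at hF
  refine ⟨F, ?_, hF.symm⟩
  have h2 : ∑ a : centralizer ({t} : Set G), zC (if E.cq a = oneQ then 1 else 0) * (χ : G → ℂ) a =
      (E.o : ℂ) * F := by
    rw [o, ← hF]
    simp only [apply_ite zC, map_one, map_zero, ite_mul, one_mul, zero_mul, ← Finset.sum_filter]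
    rw [Finset.sum_subtype (Finset.univ.filter fun a => E.cq a = oneQ) (p := fun a => a ∈ E.π.ker)
      (fun a => by simp [E.cq_eq_one_iff])]
    rfl
  calc _ = conj (∑ a : centralizer ({t} : Set G),
        zC (if E.cq a = oneQ then 1 else 0) * (χ : G → ℂ) a) := by
        rw [map_sum]
        refine Finset.sum_congr rfl fun a _ => ?_
        rw [map_mul]
        congr 1
        split_ifs <;> simp
    _ = _ := by rw [h2, map_mul, map_natCast, map_natCast]

include ht hP hχ hconj in
/-- The degree and the fixed-point dimension of the kernel agree modulo `16`, and satisfy the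
congruence of the `GL(2, 3)` case. -/
theorem degree_congr {F : ℕ} (hF : (∑ a : centralizer ({t} : Set G),
      zC (if E.cq a = oneQ then 1 else 0) * conj ((χ : G → ℂ) a)) = (E.o : ℂ) * F) :
    (16 : ℤ) ∣ degree χ - F ∧
    ∃ m : ℤ, 16 * m = (F : ℤ) + (E.mult 0 χ + 3 * E.mult 1 χ + 10 * E.mult 4 χ + 2 * E.mult 2 χ
      + 2 * E.mult 3 χ) + 4 * (3 * E.mult 0 χ + E.mult 1 χ - 2 * E.mult 4 χ + 2 * E.mult 2 χ
      + 2 * E.mult 3 χ) := by
  classical
  have ho := E.o_cast_ne_zero
  have hres : Cfsg.IsGeneralizedCharacter (centralizer ({t} : Set G))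
      fun a => (χ : G → ℂ) a := CfsgLib.Char.isGeneralized_of_isCharacter
    (CfsgLib.Char.isCharacter_restrict (CfsgLib.Char.irr_isCharacter χ.2) _)
  refine ⟨?_, ?_⟩
  · -- restriction to a Sylow subgroup and to its product with the kernel
    obtain ⟨S⟩ := (inferInstance : Nonempty (Sylow 2 (centralizer ({t} : Set G))))
    have hS16 : Nat.card (S : Subgroup (centralizer ({t} : Set G))) = 16 := by
      rw [S.card_eq_multiplicity, E.natCard, Nat.factorization_mul E.o_ne_zero (by norm_num),
        Finsupp.add_apply, Nat.factorization_eq_zero_of_not_dvd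
          (fun h => (Nat.not_even_iff_odd.2 E.odd) (even_iff_two_dvd.2 (show 2 ∣ E.o from h))), zero_add,
        show (48 : ℕ).factorization 2 = 4 by
          rw [show (48 : ℕ) = 2 ^ 4 * 3 by norm_num, Nat.factorization_mul (by norm_num) (by norm_num),
            Finsupp.add_apply, Nat.Prime.factorization_pow Nat.prime_two, Finsupp.single_eq_same,
            Nat.factorization_eq_zero_of_not_dvd (by norm_num), add_zero]]
      norm_num
    have := Fintype.ofFinite (S : Subgroup (centralizer ({t} : Set G)))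
    obtain ⟨m₁, hm₁⟩ := CfsgLib.Char.classInner_isCharacter_nat
      (G := (S : Subgroup (centralizer ({t} : Set G))))
      (CfsgLib.Char.isCharacter_comp (CfsgLib.Char.irr_isCharacter χ.2)
        ((centralizer ({t} : Set G)).subtype.comp (S : Subgroup (centralizer ({t} : Set G))).subtype))
      CfsgLib.Char.isCharacter_one
    set R : Subgroup (centralizer ({t} : Set G)) :=
      ((S : Subgroup (centralizer ({t} : Set G))).map E.π).comap E.π with hRdef
    have := Fintype.ofFinite R
    have := Fintype.ofFinite E.π.ker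
    obtain ⟨m₂, hm₂⟩ := CfsgLib.Char.classInner_isCharacter_nat (G := R)
      (CfsgLib.Char.isCharacter_comp (CfsgLib.Char.irr_isCharacter χ.2)
        ((centralizer ({t} : Set G)).subtype.comp R.subtype))
      CfsgLib.Char.isCharacter_one
    have hinj : ∀ a ∈ (S : Subgroup (centralizer ({t} : Set G))),
        ∀ b ∈ (S : Subgroup (centralizer ({t} : Set G))), E.π a = E.π b → a = b := by
      intro a ha b hb e
      obtain ⟨l, hl⟩ := (IsPGroup.iff_orderOf.1 S.2) ⟨a⁻¹ * b, mul_mem (inv_mem ha) hb⟩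
      rw [Subgroup.orderOf_mk] at hl
      have hk : a⁻¹ * b ∈ E.π.ker := by rw [MonoidHom.mem_ker, map_mul, map_inv, e, inv_mul_cancel]
      exact inv_mul_eq_one.1 (orderOf_eq_one_iff.1 (Nat.eq_one_of_dvd_coprimes
        ((Nat.coprime_two_left.2 E.odd).pow_left l) (hl ▸ dvd_rfl) (orderOf_dvd_natCard _ hk)))
    let e : ↥(S : Subgroup (centralizer ({t} : Set G))) × E.π.ker ≃ R := Equiv.ofBijective
      (fun p => ⟨(p.1 : centralizer ({t} : Set G)) * p.2, by
        show E.π ((p.1 : centralizer ({t} : Set G)) * p.2) ∈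
          (S : Subgroup (centralizer ({t} : Set G))).map E.π
        rw [map_mul, MonoidHom.mem_ker.1 p.2.2, mul_one]
        exact mem_map_of_mem _ p.1.2⟩)
      ⟨fun p p' h => by
        have h' := congrArg Subtype.val h
        have e1 : p.1 = p'.1 := Subtype.ext (hinj _ p.1.2 _ p'.1.2 (by
          have := congrArg E.π h'
          rwa [map_mul, map_mul, MonoidHom.mem_ker.1 p.2.2, MonoidHom.mem_ker.1 p'.2.2, mul_one,
            mul_one] at this))
        refine Prod.ext e1 (Subtype.ext ?_)
        simp only [e1] at h'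
        exact mul_left_cancel h',
      fun r => by
        obtain ⟨s, hs, hsr⟩ := r.2
        exact ⟨(⟨s, hs⟩, ⟨s⁻¹ * r, by rw [MonoidHom.mem_ker, map_mul, map_inv, hsr, inv_mul_cancel]⟩),
          Subtype.ext (mul_inv_cancel_left _ _)⟩⟩
    have hRcard : (Nat.card R : ℂ) = 16 * E.o := by
      rw [← Nat.card_congr e, Nat.card_prod, hS16, o]; push_cast; ring
    rw [CfsgLib.Char.classInner_def, hS16, inv_mul_eq_iff_eq_mul₀ (by norm_num)] at hm₁
    rw [CfsgLib.Char.classInner_def, hRcard,
      inv_mul_eq_iff_eq_mul₀ (mul_ne_zero (by norm_num) ho), ← e.sum_comp, Fintype.sum_prod_type] at hm₂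
    simp only [map_one, mul_one, MonoidHom.coe_comp, Subgroup.coe_subtype, Function.comp_apply] at hm₁ hm₂
    have hne : ∀ s : (S : Subgroup (centralizer ({t} : Set G))), s ≠ 1 →
        ∀ w : E.π.ker, (χ : G → ℂ) (((e (s, w) : R) : centralizer ({t} : Set G)) : G) =
          (χ : G → ℂ) ((s : centralizer ({t} : Set G)) : G) := by
      intro s hs w
      show (χ : G → ℂ) (((s : centralizer ({t} : Set G)) * w : centralizer ({t} : Set G)) : G) = _
      refine (E.fiber_const ht hP hχ (a := (s : centralizer ({t} : Set G))) ?_ ?_ ?_).symm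
      · rw [map_mul, MonoidHom.mem_ker.1 w.2, mul_one]
      · rw [← E.cq_pow, ← E.cq_one]
        refine E.cq_eq_iff.2 ?_
        obtain ⟨l, hl⟩ := (IsPGroup.iff_orderOf.1 S.2) s
        have h16 : orderOf s ∣ 16 := hS16 ▸ orderOf_dvd_natCard s
        rw [map_one, map_pow]
        have hne16 : orderOf s ≠ 16 := by
          intro h16'
          have hcyc : ∀ q ∈ elems, powQ q 16 = oneQ → powQ q 8 = oneQ := by decide +kernel
          have h1 : powQ (E.cq (s : centralizer ({t} : Set G))) 8 = oneQ := hcyc _ (E.cq_mem _) (by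
            rw [← E.cq_pow, ← SubmonoidClass.coe_pow, orderOf_dvd_iff_pow_eq_one.1 h16,
              OneMemClass.coe_one, E.cq_one])
          rw [← E.cq_pow, ← SubmonoidClass.coe_pow, ← E.cq_one] at h1
          have h8 : s ^ 8 = 1 := Subtype.ext (hinj _ (SetLike.coe_mem _) _ (one_mem _) (E.cq_eq_iff.1 h1))
          have := Nat.le_of_dvd (by norm_num) (orderOf_dvd_of_pow_eq_one h8)
          omega
        have h8 : orderOf s ∣ 8 := by
          obtain ⟨j, hj, hje⟩ := (Nat.dvd_prime_pow Nat.prime_two (m := 4)).1 (by norm_num; exact h16)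
          rw [hje] at hne16 ⊢
          interval_cases j <;> omega
        have h8' : (s : centralizer ({t} : Set G)) ^ 8 = 1 := by
          rw [← SubmonoidClass.coe_pow, orderOf_dvd_iff_pow_eq_one.1 h8, OneMemClass.coe_one]
        rw [← map_pow, h8', map_one]
      · rw [← E.cq_one]
        exact fun e => hs (Subtype.ext (hinj _ s.2 _ (one_mem _) (E.cq_eq_iff.1 e)))
    rw [← Finset.add_sum_erase _ _ (Finset.mem_univ (1 : (S : Subgroup (centralizer ({t} : Set G))))),
      ] at hm₁ hm₂
    rw [Finset.sum_congr rfl fun s hs => Finset.sum_congr rfl fun w _ =>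
      hne s (Finset.ne_of_mem_erase hs) w] at hm₂
    simp only [Finset.sum_const, Finset.card_univ, ← Nat.card_eq_fintype_card, nsmul_eq_mul,
      ← Finset.mul_sum] at hm₂
    obtain ⟨F', hF1, hF2⟩ := E.exists_fix χ
    have hFF : (F' : ℂ) = F := mul_left_cancel₀ ho (hF1.symm.trans hF)
    have h0 : ∑ w : E.π.ker, (χ : G → ℂ) (((e (1, w) : R) : centralizer ({t} : Set G)) : G) =
        (E.o : ℂ) * F := by
      rw [← hFF, hF2]
      refine Finset.sum_congr rfl fun w _ => ?_
      show (χ : G → ℂ) (((1 : centralizer ({t} : Set G)) * w : centralizer ({t} : Set G)) : G) = _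
      rw [one_mul]
    rw [h0, o, ← o] at hm₂
    simp only [OneMemClass.coe_one, degree_spec] at hm₁
    refine ⟨(m₁ : ℤ) - m₂, Int.cast_injective (α := ℂ) ?_⟩
    push_cast
    refine mul_left_cancel₀ ho ?_
    linear_combination (E.o : ℂ) * hm₁ - hm₂
  · obtain ⟨m, hm⟩ := CfsgLib.Char.classInner_isGeneralized_int E.isGen_f hres
    refine ⟨m, Int.cast_injective (α := ℂ) ?_⟩
    push_cast
    rw [← hm, CfsgLib.Char.classInner_def, E.natCard]
    simp only [mul_left_comm (16 : ℂ), Finset.mul_sum]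
    rw [Finset.sum_congr rfl fun a _ => show _ = ((E.o * 48 : ℕ) : ℂ)⁻¹ * (zC (16 * (1 + x3 (E.cq a))) *
        conj ((χ : G → ℂ) a)) by rw [map_mul, map_ofNat]; ring]
    simp only [congr_fn _ (E.cq_mem _), map_add, map_mul, map_ofNat, add_mul, mul_add,
      Finset.sum_add_distrib, mul_assoc, ← Finset.mul_sum, E.mult_inner]
    have e1 : ∑ a : centralizer ({t} : Set G),
        zC (if E.cq a = oneQ then 48 else 0) * conj ((χ : G → ℂ) a) = 48 * ((E.o : ℂ) * F) := by
      rw [← hF, Finset.mul_sum]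
      refine Finset.sum_congr rfl fun a _ => ?_
      split_ifs <;> simp [map_ofNat]
    have e2 : ∑ a : centralizer ({t} : Set G),
        zC (if E.cq a ∈ invols ∧ E.cq a ≠ tQ then 16 else 0) * conj ((χ : G → ℂ) a) =
          (E.o : ℂ) * 192 * ((3 * E.mult 0 χ + E.mult 1 χ - 2 * E.mult 4 χ + 2 * E.mult 2 χ
        + 2 * E.mult 3 χ : ℤ) : ℂ) := by
      have hval : ∀ a : centralizer ({t} : Set G),
          zC (if E.cq a ∈ invols ∧ E.cq a ≠ tQ then 16 else 0) * conj ((χ : G → ℂ) a) =
          zC (if E.cq a ∈ invols ∧ E.cq a ≠ tQ then 16 else 0) * conj ((χ : G → ℂ) t) := fun a => by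
        split_ifs with h
        · rw [CfsgLib.Char.isClassFunction_isConj (CfsgLib.Char.irr_isClassFunction χ.2)
            (hconj a ((Subgroup.orderOf_coe a).trans (orderOf_eq_prime
              (by rw [pow_two]; exact E.refl a h.1 h.2)
              (fun e => absurd h.1 (by rw [e, E.cq_one]; decide)))))]
        · simp
      have hsum : (elems.map fun q => if q ∈ invols ∧ q ≠ tQ then (16 : Zs) else 0).sum = 192 := by
        decide +kernel
      rw [Finset.sum_congr rfl fun a _ => hval a, ← Finset.sum_mul,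
        E.sum_zC fun q => if q ∈ invols ∧ q ≠ tQ then (16 : Zs) else 0, hsum, map_ofNat,
        E.apply_t ht hP hχ, map_intCast]
    rw [e1, e2]
    push_cast [E.mult_inner]
    field_simp
    ring

end principal

end Over

end CfsgLib.GLTwoThreeO
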